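import Mathlib
import Cfsg.Agent.KSG.AltCover3

/-!
# The centre of a maximal 2-subgroup of a double cover
-/

set_option autoImplicit false

open Finset Equiv Subgroup CL.Schur CL.AltCover CL.AltInvol

namespace CL.SP

open scoped commutatorElement

namespace CovZ

variable {Γ : Type*} [Group Γ] {n : ℕ} {σ : Γ →* alternatingGroup (Fin n)}

/-- `exists_not_commute` with control of the support. -/
theorem ex (hσ : IsCentralExt σ) (hk : ∀ k, σ k = 1 → k ^ 2 = 1)
    (hs : ∀ s : alternatingGroup (Fin n) →* Γ, σ.comp s ≠ MonoidHom.id _) {a : Γ}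
    (ha : TwoSwaps (σ a : Perm (Fin n))) : ∃ k, σ ⁅a, k⁆ = 1 ∧ ⁅a, k⁆ ≠ 1 ∧
      (σ k : Perm (Fin n)).support ⊆ (σ a : Perm (Fin n)).support := by
  obtain ⟨x, y, u, w, hn, h1, h2, h3, h4⟩ := ha
  obtain ⟨a₁, e, f1, f2, f3, f4⟩ := exists_split_swaps hn h1 h2 h3 h4
  have hn' : [x, u, y, w].Nodup := by grind
  obtain ⟨b, hb⟩ := exists_lift_swap_swap hσ hn
  obtain ⟨k, hk'⟩ := exists_lift_swap_swap hσ hn'
  have e1 : (σ (b⁻¹ * a) : Perm (Fin n)) = a₁ := by
    rw [map_mul, map_inv, Subgroup.coe_mul, Subgroup.coe_inv, e, hb, inv_mul_cancel_left]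
  have hd : Perm.Disjoint (σ k : Perm (Fin n)) (σ (b⁻¹ * a) : Perm (Fin n)) := by
    rw [hk', e1]
    exact (disjoint_swap_of_fix f1 f3).mul_left (disjoint_swap_of_fix f2 f4)
  have hc := commute_of_disjoint hσ (N := 2) (by decide) hk hd
  refine ⟨k, ?_, fun h => (quat_of_no_section hσ hk hs hn b k hb hk').2 ?_, fun t ht => ?_⟩
  · rw [map_commutatorElement, commutatorElement_eq_one_iff_commute]
    have h5 : Commute (σ b) (σ k) := Subtype.ext (by
      simp only [Subgroup.coe_mul, hb, hk']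
      rw [swap_swap_mul_swap_swap hn, swap_swap_mul_swap_swap hn', swap_comm y u])
    simpa using h5.mul_left (hc.symm.map σ)
  · simpa using (commutatorElement_eq_one_iff_commute.mp h).mul_left hc.symm.inv_left
  · rw [Perm.mem_support] at ht ⊢
    rw [hk'] at ht
    intro e2
    apply ht
    have n1 : t ≠ x := by rintro rfl; grind
    have n2 : t ≠ y := by rintro rfl; grind
    have n3 : t ≠ u := by rintro rfl; grind
    have n4 : t ≠ w := by rintro rfl; grind
    rw [Perm.mul_apply, swap_apply_of_ne_of_ne n2 n4, swap_apply_of_ne_of_ne n1 n3]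

/-- the elements supported in `T` -/
def Sup (σ : Γ →* alternatingGroup (Fin n)) (T : Finset (Fin n)) : Subgroup Γ where
  carrier := {k | (σ k : Perm (Fin n)).support ⊆ T}
  mul_mem' {a b} ha hb := by
    change (σ (a * b) : Perm (Fin n)).support ⊆ T
    rw [map_mul, Subgroup.coe_mul]
    exact (Perm.support_mul_le _ _).trans (sup_le ha hb)
  one_mem' := by
    change (σ 1 : Perm (Fin n)).support ⊆ T
    simp
  inv_mem' {a} ha := by
    change (σ a⁻¹ : Perm (Fin n)).support ⊆ T
    rw [map_inv, Subgroup.coe_inv, Perm.support_inv]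
    exact ha

end CovZ

/-- `hk'`: the kernel has exponent 2; `hs'`: no section (`exists_pair_of_card`,
`no_section_of_commutator`). `ker σ ≤ D` by `hmax` applied to `D ⊔ ker σ`. Suppose `u ∈ D` is central in
`D` with `σ u ≠ 1`; replace `u` by a power with `σ u` an involution (`twoSwaps_of_involution`).
`K = {k | support (σ k) ⊆ T ∧ Commute (σ u) (σ k)}` is a subgroup containing `D`, and
`C = K ⊓ centralizer {u}` is the kernel of `k ↦ ⁅u, k⁆ ∈ ker σ`, of index at most 2 in `K`, and `C ≠ K`: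
the element `k` in the proof of `exists_not_commute` lifts `swap x u * swap y w` with all four points
moved by `σ u`, so in `T` (copy that proof). `D ≤ C`, so `2 * |D|` divides `|K|`, and a Sylow
2-subgroup `R` of `K` has `|R| > |D|`, against `hmax`. So `Z(D) = ker σ` has order 2; if `D` is
commutative, `D = ker σ`. -/
theorem center_eq_of_max {Γ : Type*} [Group Γ] [Finite Γ] {n : ℕ}
    {σ : Γ →* alternatingGroup (Fin n)} (hσ : IsCentralExt σ) (hk : Nat.card σ.ker = 2)
    (hp : Group.IsPerfect Γ) (T : Finset (Fin n)) {D : Subgroup Γ} (hD : IsPGroup 2 D)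
    (hs : ∀ d ∈ D, (σ d : Perm (Fin n)).support ⊆ T)
    (hmax : ∀ R : Subgroup Γ, IsPGroup 2 R → (∀ r ∈ R, (σ r : Perm (Fin n)).support ⊆ T) →
      Nat.card R ≤ Nat.card D) :
    D = σ.ker ∨ (¬ IsMulCommutative D ∧ Nat.card (center D) = 2) := by
  have : Fact (Nat.Prime 2) := ⟨Nat.prime_two⟩
  obtain ⟨z, hz, z1, hz2⟩ := exists_pair_of_card hk
  have hk' := sq_eq_one_of_pair (σ := σ) hz hz2
  have hs' := no_section_of_commutator hσ (z := z) hz z1 (by rw [hp.commutator_eq_top]; exact mem_top z)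
  have kp : IsPGroup 2 σ.ker := IsPGroup.of_card (n := 1) hk
  have kT : σ.ker ≤ CovZ.Sup σ T := fun k h => by
    change (σ k : Perm (Fin n)).support ⊆ T
    rw [show σ k = 1 from h]; simp
  have DT : D ≤ CovZ.Sup σ T := hs
  have kD : σ.ker ≤ D := by
    have h1 := hmax (D ⊔ σ.ker) (hD.to_sup_of_normal_right kp) (sup_le DT kT)
    rw [eq_of_le_of_card_ge (le_sup_left : D ≤ D ⊔ σ.ker) h1]
    exact le_sup_right
  have key2 : ∀ u ∈ D, (∀ d ∈ D, Commute u d) → σ u * σ u = 1 → σ u = 1 := by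
    intro u hu hc h2
    by_contra h1
    have tw : TwoSwaps (σ u : Perm (Fin n)) := twoSwaps_of_involution (congrArg Subtype.val h2)
      (fun e => h1 (Subtype.ext e)) (σ u).2
    obtain ⟨k, k1, k2, k3⟩ := CovZ.ex hσ hk' hs' tw
    let K : Subgroup Γ := CovZ.Sup σ T ⊓ (centralizer {σ u}).comap σ
    have cm : ∀ {g : Γ}, g ∈ (centralizer {σ u}).comap σ ↔ σ ⁅u, g⁆ = 1 := by
      intro g
      rw [mem_comap, mem_centralizer_singleton_iff, map_commutatorElement,
        commutatorElement_eq_one_iff_mul_comm, eq_comm]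
    have DK : D ≤ K := fun d hd => ⟨DT hd, cm.2 (by
      rw [commutatorElement_eq_one_iff_commute.2 (hc d hd), map_one])⟩
    have kK : k ∈ K := ⟨k3.trans (hs u hu), cm.2 k1⟩
    let φ : K →* σ.ker := MonoidHom.mk' (fun g => ⟨⁅u, g.1⁆, cm.1 g.2.2⟩) fun a b => Subtype.ext (by
      have h3 := mem_center_iff.1 (hσ.central (cm.1 b.2.2)) a.1
      change ⁅u, a.1 * b.1⁆ = ⁅u, a.1⁆ * ⁅u, b.1⁆
      calc ⁅u, a.1 * b.1⁆ = ⁅u, a.1⁆ * (a.1 * ⁅u, b.1⁆) * a.1⁻¹ := by
            simp only [commutatorElement_def]; group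
        _ = _ := by rw [h3]; group)
    have ix : φ.ker.index = 2 := by
      rw [index_ker]
      have h3 := card_subgroup_dvd_card φ.range
      rw [hk] at h3
      refine ((Nat.dvd_prime Nat.prime_two).1 h3).resolve_left fun e => k2 ?_
      have h4 : φ ⟨k, kK⟩ ∈ φ.range := ⟨_, rfl⟩
      rw [card_eq_one.1 e, mem_bot] at h4
      exact congrArg Subtype.val h4
    obtain ⟨P, hP⟩ := (hD.comap_subtype (K := K)).exists_le_sylow
    have h3 : D ≤ (P : Subgroup K).map K.subtype := fun d hd => ⟨⟨d, DK hd⟩, hP hd, rfl⟩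
    have h4 := eq_of_le_of_card_ge h3 (hmax _ (P.isPGroup'.map _) (by
      rintro _ ⟨r, -, rfl⟩; exact r.2.1))
    have h5 : (P : Subgroup K) ≤ φ.ker := fun r hr => Subtype.ext
      (commutatorElement_eq_one_iff_commute.2 (hc r (h4 ▸ ⟨r, hr, rfl⟩)))
    have h6 := index_dvd_of_le h5
    rw [ix] at h6
    exact P.not_dvd_index h6
  have key : ∀ (m : ℕ), ∀ u ∈ D, (∀ d ∈ D, Commute u d) → σ u ^ 2 ^ m = 1 → σ u = 1 := by
    intro m
    induction m with
    | zero => intro u _ _ h; simpa using h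
    | succ m ih =>
      intro u hu hc h
      refine key2 u hu hc ?_
      rw [← map_mul]
      exact ih (u * u) (mul_mem hu hu) (fun d hd => (hc d hd).mul_left (hc d hd))
        (by rw [map_mul, ← sq, ← pow_mul, ← pow_succ', h])
  have cz : (center D).map D.subtype = σ.ker := by
    refine le_antisymm ?_ fun k h => ⟨⟨k, kD h⟩, mem_center_iff.2 fun d =>
      Subtype.ext (mem_center_iff.1 (hσ.central h) d.1), rfl⟩
    rintro _ ⟨u, hu, rfl⟩
    obtain ⟨m, hm⟩ := hD u
    exact key m u u.2 (fun d hd => (congrArg Subtype.val (mem_center_iff.1 hu ⟨d, hd⟩)).symm)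
      (by rw [← map_pow, ← Subgroup.coe_pow, hm, Subgroup.coe_one, map_one])
  by_cases hc : IsMulCommutative D
  · left
    rw [← cz, center_eq_top_iff.2 hc, ← MonoidHom.range_eq_map, range_subtype]
  · exact Or.inr ⟨hc, by rw [← hk, ← cz, Subgroup.card_subtype]⟩

end CL.SP
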