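import Mathlib
import Cfsg.Agent.BLK.SP.FDefs

/-!
# The recursion for Schur's degree formula, from the interpolation identity
-/

set_option autoImplicit false

open Finset

namespace CL.SP.DegId2

/-- the symmetric factor of a pair of parts -/
def r (a b : ℕ) : ℚ := (if b < a then ((a : ℚ) - b) / (a + b) else 1) * if a < b then ((b : ℚ) - a) / (b + a) else 1

theorem ins {T : Finset ℕ} {a : ℕ} (ha : a ∉ T) : gS (insert a T) =
    ((a + T.sum id).factorial : ℚ) / (a.factorial * ∏ b ∈ T, (b.factorial : ℚ)) *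
      ((∏ c ∈ T, ∏ b ∈ T with b < c, ((c : ℚ) - b) / (c + b)) * ∏ b ∈ T, r a b) := by
  simp only [gS, prod_filter, sum_insert ha, prod_insert ha, lt_irrefl, if_false, one_mul, prod_mul_distrib, r, id]
  ring

theorem er {T : Finset ℕ} {a : ℕ} (h0 : 0 ∉ T) : gS ((insert a T).erase 0) = gS (insert a T) := by
  rcases eq_or_ne a 0 with rfl | h
  · rw [erase_insert h0, ins h0, prod_eq_one (f := r 0) fun b hb => ?_]
    · simp [gS]
    · have : b ≠ 0 := fun e => h0 (e ▸ hb)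
      simp [r, this]
  · rw [erase_eq_of_notMem (by simp [h0, h.symm])]

theorem rr {c b : ℕ} (h0 : b ≠ 0) (h1 : b ≠ c) (h2 : b ≠ c + 1) : r c b = r (c + 1) b *
    ((((c + 1 : ℕ) : ℚ) * ((c + 1 : ℕ) - 1) - b * (b + 1)) / ((c + 1 : ℕ) * ((c + 1 : ℕ) - 1) - b * (b - 1))) := by
  have b0 : (0 : ℚ) < b := Nat.cast_pos.2 (Nat.pos_of_ne_zero h0)
  have c0 : (0 : ℚ) ≤ c := Nat.cast_nonneg c
  have n2 : (c : ℚ) + 1 - b ≠ 0 := fun e => h2 (by exact_mod_cast (sub_eq_zero.1 e).symm)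
  have n3 : (c : ℚ) + b ≠ 0 := by positivity
  have n4 : (c : ℚ) + 1 + b ≠ 0 := by positivity
  push_cast
  rw [show ((c : ℚ) + 1) * (c + 1 - 1) - b * (b + 1) = (c - b) * (c + 1 + b) by ring,
    show ((c : ℚ) + 1) * (c + 1 - 1) - b * (b - 1) = (c + 1 - b) * (c + b) by ring]
  rcases (by omega : b < c ∨ c + 1 < b) with h | h
  · simp only [r, if_pos h, if_pos (Nat.lt_succ_of_lt h), if_neg (by omega : ¬ c < b), if_neg (by omega : ¬ c + 1 < b)]
    push_cast
    field_simp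
  · simp only [r, if_pos h, if_pos (Nat.lt_of_succ_lt h), if_neg (by omega : ¬ b < c), if_neg (by omega : ¬ b < c + 1)]
    push_cast
    field_simp
    ring

theorem step {S : Finset ℕ} {a : ℕ} (h0 : 0 ∉ S) (ha : a ∈ S) (hn : a - 1 ∉ S) :
    gS (dn S a) = gS S * (a / (S.sum id : ℕ)) *
      ∏ b ∈ S.erase a, ((a : ℚ) * (a - 1) - b * (b + 1)) / (a * (a - 1) - b * (b - 1)) := by
  obtain ⟨c, rfl⟩ := Nat.exists_eq_succ_of_ne_zero fun e : a = 0 => h0 (e ▸ ha)
  obtain ⟨T, hT, rfl⟩ : ∃ T, c + 1 ∉ T ∧ S = insert (c + 1) T := ⟨_, notMem_erase _ _, (insert_erase ha).symm⟩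
  have t0 : 0 ∉ T := fun h => h0 (mem_insert_of_mem h)
  have tc : c ∉ T := fun h => hn (mem_insert_of_mem h)
  rw [dn, Nat.succ_eq_add_one, erase_insert hT, Nat.add_sub_cancel, er t0, ins tc, ins hT, sum_insert hT,
    prod_congr rfl fun b hb => rr (c := c) (fun e : b = 0 => t0 (e ▸ hb)) (fun e => tc (e ▸ hb))
      fun e => hT (e ▸ hb), prod_mul_distrib, id, Nat.add_right_comm, Nat.factorial_succ, Nat.factorial_succ]
  have : (c.factorial : ℚ) ≠ 0 := by positivity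
  have : ∏ b ∈ T, (b.factorial : ℚ) ≠ 0 := by positivity
  push_cast
  field_simp

theorem rec (lag : ∀ (S : Finset ℕ) (α β : ℕ → ℚ), Set.InjOn β S →
      ∑ j ∈ S, (β j - α j) * ∏ i ∈ S.erase j, (β j - α i) / (β j - β i) = ∑ i ∈ S, (β i - α i))
    {S : Finset ℕ} (h0 : 0 ∉ S) (hne : S.Nonempty) : gS S = ∑ a ∈ S with a - 1 ∉ S, gS (dn S a) := by
  have p : ∀ {a}, a ∈ S → 1 ≤ a := fun {a} h => Nat.pos_of_ne_zero fun e => h0 (e ▸ h)
  have l := lag S (fun x => x * (x + 1)) (fun x => x * (x - 1)) fun a ha b hb (e : (a : ℚ) * (a - 1) = b * (b - 1)) => by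
    have a1 : (1 : ℚ) ≤ a := by exact_mod_cast p ha
    have b1 : (1 : ℚ) ≤ b := by exact_mod_cast p hb
    have : ((a : ℚ) - b) * (a + b - 1) = 0 := by linear_combination e
    exact_mod_cast sub_eq_zero.1 ((mul_eq_zero.1 this).resolve_right (by linarith))
  have n0 : ((S.sum id : ℕ) : ℚ) ≠ 0 := Nat.cast_ne_zero.2 (sum_pos (fun a h => p h) hne).ne'
  have e : ∀ x : ℚ, x * (x - 1) - x * (x + 1) = -2 * x := fun x => by ring
  simp only [e, mul_assoc, ← mul_sum] at l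
  replace l := mul_left_cancel₀ (by norm_num) l
  rw [sum_congr rfl fun a ha => step h0 (mem_filter.1 ha).1 (mem_filter.1 ha).2, sum_filter_of_ne (p := fun a => a - 1 ∉ S) fun a ha h c => h ?_]
  · simp only [mul_assoc, div_eq_mul_inv _ ((S.sum id : ℕ) : ℚ), mul_left_comm _ ((S.sum id : ℕ) : ℚ)⁻¹, ← mul_sum]
    rw [l, mul_left_comm, show ∑ i ∈ S, (i : ℚ) = (S.sum id : ℕ) by simp, inv_mul_cancel₀ n0, mul_one]
  · rw [prod_eq_zero (mem_erase.2 ⟨by have := p ha; omega, c⟩), mul_zero]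
    rw [Nat.cast_sub (p ha)]
    simp [mul_comm]

end CL.SP.DegId2
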