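import Mathlib
import Cfsg.Agent.BLK.SP.Fin
import Cfsg.Agent.BLK.SP.CovZ
import Cfsg.Agent.BLK.SP.Syl2A

/-!
# The 2-subgroups of the covers of `A_n`, `n ≤ 7`
-/

set_option autoImplicit false

open Finset Equiv Subgroup CL.Schur CL.AltCover

namespace CL.SP

namespace Sm2

theorem dv {G : Type*} [Group G] [Finite G] {a m : ℕ} (h : Nat.card G ∣ 2 ^ a * m) (hm : Odd m) {D : Subgroup G}
    (hD : IsPGroup 2 D) : ∃ k ≤ a, Nat.card D = 2 ^ k := by
  obtain ⟨k, hk⟩ := hD.exists_card_eq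
  exact ⟨k, (Nat.pow_dvd_pow_iff_le_right one_lt_two).1 ((Nat.Coprime.pow_left k (Nat.coprime_two_left.2 hm)).dvd_of_dvd_mul_right
    (hk ▸ (card_subgroup_dvd_card D).trans h)), hk⟩

theorem emb {G K : Type*} [Group G] [Finite G] [Group K] (f : G →* K) {D : Subgroup G} (hD : IsPGroup 2 D)
    (hk : Odd (Nat.card f.ker)) : Nonempty (D.map f ≃* D) := by
  obtain ⟨k, e⟩ := hD.exists_card_eq
  have := disjoint_of_coprime_natCard (H := D) (K := f.ker) (e ▸ Nat.Coprime.pow_left k (Nat.coprime_two_left.2 hk))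
  exact ⟨(MulEquiv.ofBijective (f.subgroupMap D) ⟨(injective_iff_map_eq_one _).2 fun d hd =>
    Subtype.ext (disjoint_def.1 this d.2 (congrArg Subtype.val hd)), f.subgroupMap_surjective D⟩).symm⟩

theorem card {G K : Type*} [Group G] [Group K] {f : G →* K} (h : Function.Surjective f) :
    Nat.card G = Nat.card f.ker * Nat.card K := by
  rw [← f.ker.card_mul_index, index_ker, f.range_eq_top.2 h, card_top]

theorem alt {n : ℕ} (hn : 2 ≤ n) : Nat.card (alternatingGroup (Fin n)) = n.factorial / 2 := by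
  have : Nontrivial (Fin n) := Fin.nontrivial_iff_two_le.2 hn
  rw [nat_card_alternatingGroup, Nat.card_eq_fintype_card, Fintype.card_fin]

theorem alt' {n : ℕ} (hn : n < 2) : Nat.card (alternatingGroup (Fin n)) = 1 := by
  have : Subsingleton (Fin n) := Fin.subsingleton_iff_le_one.2 (by omega)
  exact Nat.card_unique

end Sm2

/-- `|A_n| ∣ 2520` (`interval_cases n`, `card_alternatingGroup`). -/
theorem card_alt_dvd {n : ℕ} (hn : n ≤ 7) : Nat.card (alternatingGroup (Fin n)) ∣ 2520 := by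
  rcases lt_or_ge n 2 with h | h
  · rw [Sm2.alt' h]; exact one_dvd _
  · rw [Sm2.alt h]
    interval_cases n <;> decide

/-- `|D| ∣ 8`. If `|D| = 8` then `6 ≤ n` and `D` is Sylow, so it contains a conjugate of the group of
`exists_noncomm_two`; `card_center_of_cube`. -/
theorem small_alt {n : ℕ} (hn : n ≤ 7) {D : Subgroup (alternatingGroup (Fin n))}
    (hD : IsPGroup 2 D) : Small 2 D := by
  have hd : Nat.card (alternatingGroup (Fin n)) ∣ 2 ^ 3 * 315 := card_alt_dvd hn
  obtain ⟨k, hk, e⟩ := Sm2.dv hd (by decide) hD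
  rcases hk.lt_or_eq with h | rfl
  · exact Or.inl (e ▸ pow_dvd_pow 2 (by omega))
  have h6 : 6 ≤ n := by
    have := e ▸ card_subgroup_dvd_card D
    by_contra h
    rcases lt_or_ge n 2 with h2 | h2
    · rw [Sm2.alt' h2] at this; omega
    · rw [Sm2.alt h2] at this
      revert this
      interval_cases n <;> decide
  have nc : ¬ IsMulCommutative D := fun hc => by
    obtain ⟨R, hR, le, nc⟩ := exists_noncomm_two (Ω := Fin n) (by simpa using h6)
    obtain ⟨P, hP⟩ := (hR.comap_subtype (K := alternatingGroup (Fin n))).exists_le_sylow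
    obtain ⟨Q, hQ⟩ := hD.exists_le_sylow
    obtain ⟨j, hj, ej⟩ := Sm2.dv hd (by decide) Q.2
    have eq : D = Q := eq_of_le_of_card_ge hQ (ej ▸ e ▸ Nat.pow_le_pow_right two_pos hj)
    have := FinX.comm (Q.equiv P) (eq ▸ hc)
    exact nc ⟨⟨fun a b => Subtype.ext (congrArg (fun x : P => (x.1 : Perm (Fin n)))
      (this.1.1 ⟨⟨a, le a.2⟩, hP a.2⟩ ⟨⟨b, le b.2⟩, hP b.2⟩))⟩⟩
  exact Or.inr (Or.inr ⟨nc, card_center_of_cube Nat.prime_two e nc⟩)

/-- `|D| ∣ 16`. `|D| = 16`: `center_eq_of_max` with `T = univ`. `|D| = 8`: `card_center_of_cube`, or `D`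
is commutative with at most one involution (`map_eq_one_of_sq`; no section by
`no_section_of_commutator`), hence cyclic (`isCyclic_of_card_pow_eq_one_le`: squaring has kernel of
order at most 2, so `x ^ 2 ^ j = 1` has at most `2 ^ j` solutions). -/
theorem small_cov {Γ : Type*} [Group Γ] [Finite Γ] {n : ℕ} (hn : n ≤ 7)
    {σ : Γ →* alternatingGroup (Fin n)} (hσ : IsCentralExt σ) (hk : Nat.card σ.ker = 2)
    (hp : Group.IsPerfect Γ) {D : Subgroup Γ} (hD : IsPGroup 2 D) : Small 2 D := by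
  have hd : Nat.card Γ ∣ 2 ^ 4 * 315 := by
    rw [Sm2.card hσ.surj, hk]
    exact mul_dvd_mul_left 2 (card_alt_dvd hn)
  obtain ⟨k, hk4, e⟩ := Sm2.dv hd (by decide) hD
  rcases hk4.lt_or_eq with h | rfl
  swap
  · refine (center_eq_of_max hσ hk hp univ hD (fun _ _ => subset_univ _) fun R hR _ => ?_).elim
      (fun h => absurd (e.symm.trans (h ▸ hk)) (by decide)) fun h => Or.inr (Or.inr h)
    obtain ⟨j, hj, ej⟩ := Sm2.dv hd (by decide) hR
    exact ej ▸ e ▸ Nat.pow_le_pow_right two_pos hj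
  rcases (Nat.le_of_lt_succ h).lt_or_eq with h | rfl
  · exact Or.inl (e ▸ pow_dvd_pow 2 (by omega))
  by_cases hc : IsMulCommutative D
  swap
  · exact Or.inr (Or.inr ⟨hc, card_center_of_cube Nat.prime_two e hc⟩)
  refine Or.inr (Or.inl (by_contra fun nc => ?_))
  obtain ⟨z, hz, z1, hz'⟩ := exists_pair_of_card hk
  have one : ∀ γ : Γ, γ ^ 2 = 1 → σ γ = 1 := fun γ => map_eq_one_of_sq hn hσ (sq_eq_one_of_pair hz hz')
    (no_section_of_commutator hσ hz z1 Group.IsPerfect.mem_commutator)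
  let s : D →* D := MonoidHom.mk' (fun x => x ^ 2) fun a b => Commute.mul_pow (hc.1.1 a b) 2
  have k2 : Nat.card s.ker ≤ 2 := hk ▸ Nat.card_le_card_of_injective
    (fun x : s.ker => (⟨x.1.1, one _ (congrArg Subtype.val x.2)⟩ : σ.ker))
    fun a b h => Subtype.ext (Subtype.ext (Subtype.mk.inj h))
  have le : s.range ≤ s.ker := by
    rintro _ ⟨x, rfl⟩
    obtain ⟨j, hj, ej⟩ := (Nat.dvd_prime_pow Nat.prime_two).1 (e ▸ orderOf_dvd_natCard x)
    have : j ≠ 3 := fun h => nc (isCyclic_of_orderOf_eq_card x (by rw [ej, e, h]))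
    change (x ^ 2) ^ 2 = 1
    rw [← pow_mul]
    exact orderOf_dvd_iff_pow_eq_one.1 (ej ▸ pow_dvd_pow 2 (show j ≤ 2 by omega))
  have := s.ker.card_mul_index
  rw [index_ker, e] at this
  have := card_le_of_le le
  nlinarith

/-- `|ker σ| ∈ {1, 3}`: `σ` is injective on `D`, `small_alt` for `D.map σ`, `Small.congr`.
`|ker σ| = 2`: `small_cov`. `|ker σ| = 6`: let `Z ≤ ker σ` have order 3 (central, so normal), pass to
`H ⧸ Z` (`QuotientGroup.lift`), where the kernel has order 2 and `D` embeds. -/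
theorem small_two {H : Type*} [Group H] [Finite H] {n : ℕ} (hn : n ≤ 7)
    {σ : H →* alternatingGroup (Fin n)} (hσ : IsCentralExt σ) (hk : Nat.card σ.ker ∣ 6)
    (hp : Group.IsPerfect H) {D : Subgroup H} (hD : IsPGroup 2 D) : Small 2 D := by
  have odd : Odd (Nat.card σ.ker) → Small 2 D := fun h => (Sm2.emb σ hD h).elim fun e => (small_alt hn (hD.map σ)).congr e
  have := Nat.le_of_dvd (by decide) hk
  have := Nat.card_pos (α := σ.ker)
  obtain h | h | h | h : Nat.card σ.ker = 1 ∨ Nat.card σ.ker = 3 ∨ Nat.card σ.ker = 2 ∨ Nat.card σ.ker = 6 := by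
    generalize Nat.card σ.ker = m at *
    interval_cases m <;> simp_all
  · exact odd (h ▸ by decide)
  · exact odd (h ▸ by decide)
  · exact small_cov hn hσ h hp hD
  have : Fact (Nat.Prime 3) := ⟨Nat.prime_three⟩
  obtain ⟨z, hz⟩ := exists_prime_orderOf_dvd_card' (G := σ.ker) 3 (h ▸ by decide)
  have le : zpowers z.1 ≤ σ.ker := zpowers_le.2 z.2
  have c3 : Nat.card (zpowers z.1) = 3 := by rw [Nat.card_zpowers, orderOf_coe, hz]
  have : (zpowers z.1).Normal := ⟨fun a ha g => by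
    rwa [mem_center_iff.1 (hσ.central (le ha)) g, mul_inv_cancel_right]⟩
  let τ := QuotientGroup.lift (zpowers z.1) σ le
  have sj : Function.Surjective τ := fun y => (hσ.surj y).elim fun x hx => ⟨x, hx⟩
  have hτ : IsCentralExt τ := ⟨sj, fun x hx => by
    obtain ⟨x, rfl⟩ := QuotientGroup.mk_surjective x
    refine mem_center_iff.2 fun g => ?_
    obtain ⟨g, rfl⟩ := QuotientGroup.mk_surjective g
    exact congrArg (QuotientGroup.mk' (zpowers z.1)) (mem_center_iff.1 (hσ.central hx) g)⟩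
  have c2 : Nat.card τ.ker = 2 := by
    have a := Sm2.card hσ.surj
    rw [card_eq_card_quotient_mul_card_subgroup (zpowers z.1), Sm2.card sj, c3, h] at a
    have := Nat.card_pos (α := alternatingGroup (Fin n))
    nlinarith
  obtain ⟨e⟩ := Sm2.emb (QuotientGroup.mk' (zpowers z.1)) hD (by rw [QuotientGroup.ker_mk', c3]; decide)
  exact (small_cov hn hτ c2 inferInstance (hD.map _)).congr e

end CL.SP
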