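import Mathlib
import Cfsg.Agent.BLK.SP.Small2
import Cfsg.Agent.S0088

/-!
# The odd `p`-subgroups of the covers of `A_n`, `n ≤ 7`
-/

set_option autoImplicit false

open Finset Equiv Subgroup CL.Schur

namespace CL.SP

/-- `|H| = |ker σ| * |A_n|` divides `6 * 2520 = 2 ^ 4 * 3 ^ 3 * 5 * 7` (`card_alt_dvd`). `|D| = p ^ k`:
`k ≤ 2`, or `p = 3`, `k = 3`, `3 ∣ |ker σ|` and `D` is a Sylow (Hall) subgroup. It contains the central
element of order 3, so it is not commutative (`S0088`, `commutator H = ⊤`); `card_center_of_cube`. -/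
theorem small_odd {H : Type*} [Group H] [Finite H] {n : ℕ} (hn : n ≤ 7)
    {σ : H →* alternatingGroup (Fin n)} (hσ : IsCentralExt σ) (hk : Nat.card σ.ker ∣ 6)
    (hH : Group.IsPerfect H) {p : ℕ} (hp : p.Prime) (hp2 : p ≠ 2) {D : Subgroup H}
    (hD : IsPGroup p D) : Small p D := by
  have := Fact.mk hp
  have hc : Nat.card H = Nat.card σ.ker * Nat.card (alternatingGroup (Fin n)) := by
    rw [← σ.ker.card_mul_index, index_ker, MonoidHom.range_eq_top.2 hσ.surj, card_top]
  have hA := card_alt_dvd hn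
  have h1 : Nat.card H ∣ 6 * 2520 := hc ▸ mul_dvd_mul hk hA
  obtain ⟨k, e⟩ := IsPGroup.iff_card.1 hD
  by_cases hk2 : k ≤ 2
  · exact Or.inl (e ▸ pow_dvd_pow p hk2)
  have h2 : p ^ k ∣ Nat.card H := e ▸ card_subgroup_dvd_card D
  have h3 : p ^ 3 ∣ 6 * 2520 := (pow_dvd_pow p (by omega)).trans (h2.trans h1)
  obtain rfl : p = 3 := by
    have h4 : p ^ 3 ≤ 6 * 2520 := Nat.le_of_dvd (by norm_num) h3
    have h5 : p < 25 := by
      by_contra h6
      have := Nat.pow_le_pow_left (not_lt.1 h6) 3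
      omega
    have h7 := hp.two_le
    interval_cases p <;> first | rfl | omega | (exfalso; revert hp; norm_num)
  have h4 : ∀ j, 3 ^ j ∣ Nat.card H → j ≤ 3 := fun j hj => by
    by_contra h5
    have := (pow_dvd_pow 3 (show 4 ≤ j by omega)).trans (hj.trans h1)
    omega
  obtain rfl : k = 3 := by have := h4 k h2; omega
  have h5 : 3 ∣ Nat.card σ.ker := by
    by_contra h6
    have h7 : Nat.card σ.ker ∣ 2 :=
      ((Nat.Prime.coprime_iff_not_dvd hp).2 h6).symm.dvd_of_dvd_mul_right (n := 3) hk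
    have := h2.trans (hc ▸ mul_dvd_mul h7 hA)
    omega
  obtain ⟨z, hz⟩ := exists_prime_orderOf_dvd_card' 3 h5
  have hzc : (z : H) ∈ center H := hσ.central z.2
  have hz3 : orderOf (z : H) = 3 := by rw [orderOf_coe, hz]
  have hzn : (zpowers (z : H)).Normal := ⟨fun x hx g => by
    rwa [mem_center_iff.1 ((zpowers_le.2 hzc) hx) g, mul_inv_cancel_right]⟩
  have hzp : IsPGroup 3 (zpowers (z : H)) :=
    IsPGroup.of_card (n := 1) (by rw [Nat.card_zpowers, hz3, pow_one])
  obtain ⟨j, hj⟩ := IsPGroup.iff_card.1 (hD.to_sup_of_normal_right hzp)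
  have h6 : D = D ⊔ zpowers (z : H) := eq_of_le_of_card_ge le_sup_left (by
    rw [hj, e]
    exact Nat.pow_le_pow_right (by norm_num) (h4 j (hj ▸ card_subgroup_dvd_card _)))
  have hzD : (z : H) ∈ D := h6 ▸ mem_sup_right (mem_zpowers _)
  have hn : ¬ IsMulCommutative D := fun hcomm => by
    have h7 := Cfsg.Agent.S0088.result D hcomm (by
      have h8 := D.card_mul_index
      rw [e] at h8 ⊢
      refine Nat.Coprime.pow_left _ ((Nat.Prime.coprime_iff_not_dvd hp).2 fun h9 => ?_)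
      have := h4 4 (h8 ▸ mul_dvd_mul_left (3 ^ 3) h9)
      omega)
    have h8 : (z : H) ∈ D ⊓ commutator H ⊓ center H :=
      ⟨⟨hzD, by rw [hH.commutator_eq_top]; trivial⟩, hzc⟩
    rw [h7, mem_bot] at h8
    rw [h8, orderOf_one] at hz3
    omega
  exact Or.inr (Or.inr ⟨hn, card_center_of_cube hp e hn⟩)

end CL.SP
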