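import Mathlib
import Cfsg.Agent.BLK.SP.BDefs
import Cfsg.Agent.BLK.SP.CovZ
import Cfsg.Agent.BLK.SP.AltSupp
import Cfsg.Agent.BLK.Transport
import Cfsg.Agent.S4434
import Cfsg.Agent.SOLV.Basic

/-!
# The 2-blocks of the double covers
-/

set_option autoImplicit false

open Finset Equiv Subgroup Cfsg CL.Blk CL.Schur

namespace CL.SP

theorem TwoCov.card_eq {G H : Type*} [Group G] [Group H] (f : G →* H) (R : Subgroup G) :
    Nat.card R = Nat.card (R.map f) * Nat.card (R ⊓ f.ker : Subgroup G) := by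
  exact (CL.card_map_mul_card_inf_ker R f).symm

/-- `S4434` with `N = ker σ` and `isDefectGroup_blkMap_iff`, `isPBlock_blkMap` along
`QuotientGroup.quotientKerEquivOfSurjective σ`: `D.map σ` is a defect group of a block of `A_n`.
`exists_support_alt` gives `T`. `ker σ ≤ D` (`D` is Sylow in a centralizer, `ker σ` is a central
2-subgroup), so `|D| = 2 * |D.map σ|`, and `|R| ≤ 2 * |R.map σ|` for every `R`. `center_eq_of_max`. -/
theorem small_cov_block {H : Type*} [Group H] [Finite H] {n : ℕ}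
    {σ : H →* alternatingGroup (Fin n)} (hσ : IsCentralExt σ) (hk : Nat.card σ.ker = 2)
    (hp : Group.IsPerfect H) {M : Ideal AlgInt} (hM : IsPModular 2 M) {B : Set (IrrCharacter H)}
    (hB : IsPBlock M B) {D : Subgroup H} (hD : IsDefectGroup 2 M B D) : Small 2 D := by
  have := Fact.mk Nat.prime_two
  have pk : IsPGroup 2 σ.ker := IsPGroup.of_card (n := 1) (by rw [hk, pow_one])
  obtain ⟨b, hb, -, h2⟩ := exists_block_isDefectGroup_map hM hσ.surj pk hB
  obtain ⟨T, hs, hm⟩ := exists_support_alt hM hb ((h2 _).2 ⟨D, hD, rfl⟩)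
  have kD : σ.ker ≤ D := hD.normal_le hM hB pk
  have cD : Nat.card D = Nat.card (D.map σ) * 2 := by rw [TwoCov.card_eq σ D, inf_eq_right.2 kD, hk]
  rcases center_eq_of_max hσ hk hp T hD.isPGroup (fun d hd => hs _ (mem_map_of_mem σ hd)) (fun R pR sR => by
    have h1 := hm (R.map σ) (pR.map σ) (by rintro _ ⟨r, hr, rfl⟩; exact sR r hr)
    have h3 : Nat.card (R ⊓ σ.ker : Subgroup H) ≤ 2 := hk ▸ card_le_of_le inf_le_right
    rw [TwoCov.card_eq σ R, cD]
    exact Nat.mul_le_mul h1 h3) with e | e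
  · exact Or.inl (by rw [e, hk]; decide)
  · exact Or.inr (Or.inr e)

end CL.SP
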