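import Mathlib
import Cfsg.Agent.BLK.SP.FDefs
import Cfsg.Agent.Eqns.CL_SP_ket

/-!
# The coefficients of `φ_a v`; the adjoint of `φ_a`; divisibility of the coefficients of kets
-/

set_option autoImplicit false

open Finset

namespace CL.SP.Phi2

theorem sg_insert (k : ℕ) (S : Finset ℕ) : sg k (insert k S) = sg k S := by
  unfold sg
  rw [filter_insert, if_neg (lt_irrefl k)]

theorem sg_erase (k : ℕ) (S : Finset ℕ) : sg k (S.erase k) = sg k S := by
  by_cases h : k ∈ S
  · rw [← sg_insert, insert_erase h]
  · rw [erase_eq_of_notMem h]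

theorem phi_single (a : ℤ) (T : Finset ℕ) (c : ℚ) : phi a (Finsupp.single T c) = c • phiB a T := by
  simp [phi]

/-- The coefficients of `φ_a v`. -/
theorem phi_apply (a : ℤ) (v : Fk) (S : Finset ℕ) : phi a v S =
    if 0 < a then (if a.natAbs ∈ S then sg a.natAbs S * v (S.erase a.natAbs) else 0)
    else if a = 0 then (-1) ^ #S * v S
    else if a.natAbs ∈ S then 0 else 2 * (-1) ^ a.natAbs * sg a.natAbs S * v (insert a.natAbs S) := by
  induction v using Finsupp.induction_linear with
  | zero => simp
  | add v w hv hw =>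
    rw [map_add, Finsupp.add_apply, hv, hw]
    simp only [Finsupp.add_apply]
    split_ifs <;> ring
  | single T c =>
    rw [phi_single, phiB]
    generalize a.natAbs = k
    split_ifs with h1 h2 h3 h3 h2 h3 h4 h4
    · have : S.erase k ≠ T := fun e => notMem_erase k S (e ▸ h2)
      simp [Finsupp.single_eq_of_ne this]
    · simp
    · by_cases e : T = S.erase k
      · subst e
        rw [insert_erase h3, sg_erase]
        simp [mul_comm]
      · have : S ≠ insert k T := fun e' => e (by rw [e', erase_insert h2])
        simp [Finsupp.single_eq_of_ne this, Finsupp.single_eq_of_ne (Ne.symm e)]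
    · have : S ≠ insert k T := fun e' => h3 (e' ▸ mem_insert_self k T)
      simp [Finsupp.single_eq_of_ne this]
    · by_cases e : S = T
      · subst e
        simp [mul_comm]
      · simp [Finsupp.single_eq_of_ne e]
    · have : S ≠ T.erase k := fun e' => notMem_erase k T (e' ▸ h4)
      simp [Finsupp.single_eq_of_ne this]
    · by_cases e : T = insert k S
      · subst e
        rw [erase_insert h4, sg_insert]
        simp [mul_comm]
      · have : S ≠ T.erase k := fun e' => e (by rw [e', insert_erase h3])
        simp [Finsupp.single_eq_of_ne this, Finsupp.single_eq_of_ne (Ne.symm e)]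
    · simp
    · have : insert k S ≠ T := fun e' => h3 (e' ▸ mem_insert_self k S)
      simp [Finsupp.single_eq_of_ne this]

theorem fm_single (T : Finset ℕ) (c : ℚ) (w : Fk) : fm (Finsupp.single T c) w = c * (2 ^ #T * w T) := by
  simp [fm]

theorem fm_phi (a : ℤ) (v w : Fk) : fm (phi a v) w = (-1 : ℚ) ^ a.natAbs * fm v (phi (-a) w) := by
  induction v using Finsupp.induction_linear with
  | zero => simp
  | add v v' hv hv' => simp only [map_add, LinearMap.add_apply, hv, hv', mul_add]
  | single T c =>
    rw [phi_single, phiB, fm_single, phi_apply, Int.natAbs_neg]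
    have s : (-1 : ℚ) ^ a.natAbs * (-1) ^ a.natAbs = 1 := by rw [← mul_pow]; simp
    rcases lt_trichotomy 0 a with h | rfl | h
    · rw [if_pos h, if_neg (show ¬ 0 < -a by omega), if_neg (show ¬ -a = 0 by omega)]
      split_ifs with h2
      · simp
      · simp only [map_smul, LinearMap.smul_apply, fm_bv, smul_eq_mul, card_insert_of_notMem h2]
        linear_combination (-(c * 2 * 2 ^ #T * sg a.natAbs T * w (insert a.natAbs T))) * s
    · simp only [lt_irrefl, if_false, if_true, neg_zero, map_smul, LinearMap.smul_apply, fm_bv, smul_eq_mul,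
        Int.natAbs_zero]
      ring
    · rw [if_neg (show ¬ 0 < a by omega), if_neg h.ne, if_pos (show 0 < -a by omega)]
      split_ifs with h2
      · simp only [map_smul, LinearMap.smul_apply, fm_bv, smul_eq_mul]
        rw [← card_erase_add_one h2]
        ring
      · simp

theorem ket_dvd (l : List ℤ) (S : Finset ℕ) :
    ∃ z : ℤ, 2 ^ #S * ket l S = 2 ^ (l.countP fun a => decide (0 < a)) * (z : ℚ) := by
  induction l generalizing S with
  | nil =>
    by_cases h : S = ∅
    · exact ⟨1, by simp [ket, h]⟩
    · exact ⟨0, by simp [ket, Finsupp.single_eq_of_ne h]⟩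
  | cons a l ih =>
    rw [ket, phi_apply, List.countP_cons]
    simp only [decide_eq_true_eq]
    split_ifs with h1 h2 h2 h4
    · obtain ⟨z, hz⟩ := ih (S.erase a.natAbs)
      refine ⟨(-1) ^ #{s ∈ S | a.natAbs < s} * z, ?_⟩
      rw [← card_erase_add_one h2, sg]
      push_cast
      linear_combination (2 * (-1) ^ #{s ∈ S | a.natAbs < s}) * hz
    · exact ⟨0, by simp⟩
    · obtain ⟨z, hz⟩ := ih S
      refine ⟨(-1) ^ #S * z, ?_⟩
      push_cast
      linear_combination ((-1) ^ #S) * hz
    · exact ⟨0, by simp⟩
    · obtain ⟨z, hz⟩ := ih (insert a.natAbs S)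
      refine ⟨(-1) ^ a.natAbs * (-1) ^ #{s ∈ S | a.natAbs < s} * z, ?_⟩
      rw [card_insert_of_notMem h4] at hz
      rw [sg]
      push_cast
      linear_combination ((-1) ^ a.natAbs * (-1) ^ #{s ∈ S | a.natAbs < s}) * hz

end CL.SP.Phi2
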