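import Mathlib
import Cfsg.Agent.BLK.SP.Clif

/-!
# The double cover of the alternating group is perfect
-/

set_option autoImplicit false

open Finset Equiv Matrix

namespace CL.SP.Pin2

variable {n : ℕ}

theorem sq {i j : Fin n} (h : i ≠ j) : (((Real.sqrt 2 : ℝ) : ℂ)⁻¹ • (cM i - cM j)) *
    (((Real.sqrt 2 : ℝ) : ℂ)⁻¹ • (cM i - cM j)) = 1 := by
  have s : ((Real.sqrt 2 : ℝ) : ℂ)⁻¹ * ((Real.sqrt 2 : ℝ) : ℂ)⁻¹ * 2 = 1 := by
    rw [← mul_inv, ← Complex.ofReal_mul, Real.mul_self_sqrt (by norm_num)]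
    norm_num
  rw [smul_mul_smul_comm, sub_mul, mul_sub, mul_sub, cM_sq, cM_sq, cM_anti h,
    show (1 : Mt n) - -(cM j * cM i) - (cM j * cM i - 1) = (2 : ℂ) • (1 : Mt n) by rw [two_smul]; abel,
    smul_smul, s, one_smul]

theorem anti {i j k l : Fin n} (h1 : i ≠ k) (h2 : i ≠ l) (h3 : j ≠ k) (h4 : j ≠ l) (s : ℂ) :
    (s • (cM k - cM l)) * (s • (cM i - cM j)) = -((s • (cM i - cM j)) * (s • (cM k - cM l))) := by
  rw [smul_mul_smul_comm, smul_mul_smul_comm, ← smul_neg]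
  simp only [sub_mul, mul_sub, cM_anti h1, cM_anti h2, cM_anti h3, cM_anti h4]
  congr 1
  abel

theorem perfect (tt : ∀ {i j : Fin n}, i ≠ j → ∃ t : Pin n, pr n t = swap i j ∧
      rho n t = ((Real.sqrt 2 : ℝ) : ℂ)⁻¹ • (cM i - cM j)) (sj : Function.Surjective (pr n))
    (one : ∀ {g : Pin n}, pr n g = 1 ↔ g = 1 ∨ g = zz n) (hn : 5 ≤ n) : Group.IsPerfect (Spin n) := by
  have le : ⁅Spin n, Spin n⁆ ≤ Spin n := Subgroup.commutator_le_left _ _
  have mp : (⁅Spin n, Spin n⁆ : Subgroup (Pin n)).map (pr n) = alternatingGroup (Fin n) := by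
    rw [Subgroup.map_commutator, Subgroup.map_comap_eq_self_of_surjective sj,
      commutator_alternatingGroup_eq_self (by simpa using hn)]
  have dec : ∀ g ∈ Spin n, ∃ k ∈ ⁅Spin n, Spin n⁆, g = k ∨ g = k * zz n := fun g hg => by
    obtain ⟨k, hk, e⟩ : pr n g ∈ (⁅Spin n, Spin n⁆ : Subgroup (Pin n)).map (pr n) := mp ▸ hg
    refine ⟨k, hk, (one.1 (show pr n (k⁻¹ * g) = 1 by rw [map_mul, map_inv, e, inv_mul_cancel])).imp
      (fun c => (inv_mul_eq_one.1 c).symm) fun c => inv_mul_eq_iff_eq_mul.1 c⟩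
  have z : zz n ∈ ⁅Spin n, Spin n⁆ := by
    obtain ⟨i, j, k, l, nd⟩ : ∃ i j k l : Fin n, [i, j, k, l].Nodup :=
      ⟨⟨0, by omega⟩, ⟨1, by omega⟩, ⟨2, by omega⟩, ⟨3, by omega⟩, by simp⟩
    have d := (Perm.disjoint_swap_swap nd).commute
    simp only [List.nodup_cons, List.mem_cons, List.not_mem_nil, or_false, not_or] at nd
    obtain ⟨⟨ij, ik, il⟩, ⟨jk, jl⟩, kl, -⟩ := nd
    obtain ⟨t, p, r⟩ := tt ij
    obtain ⟨u, p', r'⟩ := tt kl
    have e : t * u * (t * u) = zz n := pin_ext (by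
      rw [map_mul, map_mul, p, p', pr_zz, d.symm.mul_mul_mul_comm, Equiv.swap_mul_self, Equiv.swap_mul_self,
        mul_one]) (by
      rw [map_mul, map_mul, r, r', rho_zz, mul_assoc, ← mul_assoc _ _ (_ • (cM k - cM l)), anti ik il jk jl,
        neg_mul, mul_neg, mul_assoc, sq kl, mul_one, sq ij])
    obtain ⟨g, hg, c | c⟩ := dec (t * u) (by
      rw [Subgroup.mem_comap, Perm.mem_alternatingGroup, map_mul, map_mul, p, p', Perm.sign_swap ij,
        Perm.sign_swap kl]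
      simp)
    · rw [← e, c]
      exact mul_mem hg hg
    · rw [← e, c, show g * zz n * (g * zz n) = g * g from pin_ext (by simp [pr_zz]) (by simp [rho_zz])]
      exact mul_mem hg hg
  refine Subgroup.isPerfect_iff.2 (le_antisymm le fun g hg => ?_)
  obtain ⟨k, hk, rfl | rfl⟩ := dec g hg
  exacts [hk, mul_mem hk z]

end CL.SP.Pin2
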